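import Cfsg.Agent.Lib.InvChar.SporData.FiA.PermData

set_option autoImplicit false
set_option maxRecDepth 100000

namespace CfsgLib.InvChar.Coset.FiA

theorem orbit2_ok : ∀ j < 1680, Table.OrbitOK tab2 [[0], [1], [2], [3], [4], [5], [6], [7]] orb2Pts orb2Pos orb2Par 1680 j :=
  fun j hj => Table.chkOrbit_get tab2 [[0], [1], [2], [3], [4], [5], [6], [7]] orb2Pts orb2Pos orb2Par 1680 1680 0 (by decide +kernel) j (Nat.zero_le j) (by omega)

theorem base2 : field orb2Pts 128 20 0 = 192 := by decide +kernel

theorem derived3 : tab2.chkDerived tab3 words3 3510 0 = true := by decide +kernel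

end CfsgLib.InvChar.Coset.FiA
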