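import Cfsg.Agent.Lib.InvChar.SporData.FiA.PermData

set_option autoImplicit false
set_option maxRecDepth 100000

namespace CfsgLib.InvChar.Coset.FiA

theorem orbit4_ok : ∀ j < 16, Table.OrbitOK tab4 [[0], [1], [2], [3], [4], [5], [6], [7]] orb4Pts orb4Pos orb4Par 16 j :=
  fun j hj => Table.chkOrbit_get tab4 [[0], [1], [2], [3], [4], [5], [6], [7]] orb4Pts orb4Pos orb4Par 16 16 0 (by decide +kernel) j (Nat.zero_le j) (by omega)

theorem base4 : field orb4Pts 128 20 0 = 8 := by decide +kernel

end CfsgLib.InvChar.Coset.FiA
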