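import Cfsg.Agent.Lib.InvChar.SporData.FiA.L0
import Cfsg.Agent.Lib.InvChar.SporData.FiA.L1
import Cfsg.Agent.Lib.InvChar.SporData.FiA.L2
import Cfsg.Agent.Lib.InvChar.SporData.FiA.L3
import Cfsg.Agent.Lib.InvChar.SporData.FiA.L4
import Cfsg.Agent.Lib.InvChar.SporData.FiA.Points

set_option autoImplicit false
set_option maxRecDepth 100000

namespace CfsgLib.InvChar.Coset.FiA

theorem sq : ∀ x < table.g, [x, x] ∈ rels := by
  intro x hx
  have hx : x < 9 := hx
  revert x
  decide

/-- The group of the table has at least the expected order. -/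
theorem card_range_ge {G : Type*} [Group G] (s : ℕ → G) (φ : G →* Equiv.Perm (Fin table.n))
    (hφ : ∀ x < table.g, φ (s x) = valid.toPerm sq x) : 64561751654400 ≤ Nat.card φ.range := by
  have r0 := Table.realises_range valid sq s φ hφ
  have r1' := r0.derived table tab1 words1 (by decide) (by decide +kernel) derived1
  have r1 := Table.Realises.inf_stabilizer (T := tab1) r1' (⟨0, by decide +kernel⟩ : Fin table.n) (by intro x hx; have hx : x < 8 := hx; revert x; decide +kernel)
  have r2' := r1.derived tab1 tab2 words2 (by decide) (by decide +kernel) derived2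
  have r2 := Table.Realises.inf_stabilizer (T := tab2) r2' (⟨1, by decide +kernel⟩ : Fin table.n) (by intro x hx; have hx : x < 8 := hx; revert x; decide +kernel)
  have r3' := r2.derived tab2 tab3 words3 (by decide) (by decide +kernel) derived3
  have r3 := Table.Realises.inf_stabilizer (T := tab3) r3' (⟨192, by decide +kernel⟩ : Fin table.n) (by intro x hx; have hx : x < 8 := hx; revert x; decide +kernel)
  have r4' := r3.derived tab3 tab4 words4 (by decide) (by decide +kernel) derived4
  have r4 := Table.Realises.inf_stabilizer (T := tab4) r4' (⟨54, by decide +kernel⟩ : Fin table.n) (by intro x hx; have hx : x < 8 := hx; revert x; decide +kernel)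
  have c4 := Table.card_ge_step (T := tab4) (n := table.n) rfl r4 (S := [[0], [1], [2], [3], [4], [5], [6], [7]]) (by decide +kernel) (by decide) orbit4_ok ⟨8, by decide +kernel⟩ base4.symm (Nat.succ_le_of_lt Nat.card_pos)
  have c3 := Table.card_ge_step (T := tab3) (n := table.n) rfl r3 (S := [[0], [1], [2], [3], [4], [5], [6], [7]]) (by decide +kernel) (by decide) orbit3_ok ⟨54, by decide +kernel⟩ base3.symm c4
  have c2 := Table.card_ge_step (T := tab2) (n := table.n) rfl r2 (S := [[0], [1], [2], [3], [4], [5], [6], [7]]) (by decide +kernel) (by decide) orbit2_ok ⟨192, by decide +kernel⟩ base2.symm c3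
  have c1 := Table.card_ge_step (T := tab1) (n := table.n) rfl r1 (S := [[0], [1], [2], [3], [4], [5], [6], [7]]) (by decide +kernel) (by decide) orbit1_ok ⟨1, by decide +kernel⟩ base1.symm c2
  have c0 := Table.card_ge_step (T := table) (n := table.n) rfl r0 (S := [[0], [1], [2], [3], [4], [5], [6], [7], [8]]) (by decide +kernel) (by decide) orbit0_ok ⟨0, by decide +kernel⟩ base0.symm c1
  exact le_trans (le_of_eq (by norm_num)) c0

end CfsgLib.InvChar.Coset.FiA
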