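import Cfsg.Agent.Lib.InvChar.SporData.FiA.Rows
import Cfsg.Agent.Lib.InvChar.SporData.FiA.F0
import Cfsg.Agent.Lib.InvChar.SporData.FiA.F1
import Cfsg.Agent.Lib.InvChar.SporData.FiA.F2

set_option autoImplicit false
set_option maxRecDepth 100000

namespace CfsgLib.InvChar.Coset.FiA

theorem facts_ok : ∀ j < 149, cert.chkRun 128 (j * 128) (cert.just.get j) = true := by
  intro j hj
  rcases Nat.lt_or_ge j 64 with h0 | h0
  · obtain ⟨i, rfl⟩ : ∃ i, j = 0 + i := ⟨j - 0, by omega⟩
    exact chkBlocks_get (D := cert) 64 0 chk_facts0 i (by omega)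
  rcases Nat.lt_or_ge j 128 with h1 | h1
  · obtain ⟨i, rfl⟩ : ∃ i, j = 64 + i := ⟨j - 64, by omega⟩
    exact chkBlocks_get (D := cert) 64 64 chk_facts1 i (by omega)
  rcases Nat.lt_or_ge j 149 with h2 | h2
  · obtain ⟨i, rfl⟩ : ∃ i, j = 128 + i := ⟨j - 128, by omega⟩
    exact chkBlocks_get (D := cert) 21 128 chk_facts2 i (by omega)
  omega

theorem covered : Covered cert table live fin where
  hg15 := by decide +kernel
  hn := by decide +kernel
  facts := ⟨149, by decide +kernel, facts_ok⟩
  rows := by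
    intro i hi
    have hi : i < 3510 := hi
    rcases Nat.lt_or_ge i 1500 with h0 | h0
    · exact chkRows_get 1500 0 chk_rows0 i (by omega) (by omega)
    rcases Nat.lt_or_ge i 3000 with h1 | h1
    · exact chkRows_get 1500 1500 chk_rows1 i (by omega) (by omega)
    rcases Nat.lt_or_ge i 3510 with h2 | h2
    · exact chkRows_get 510 3000 chk_rows2 i (by omega) (by omega)
    omega
  root := by decide +kernel

end CfsgLib.InvChar.Coset.FiA
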